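import Groth.Agent.L15.SphTilde.Sec
import Groth.Agent.L10.SiteCoh
import Groth.Agent.L10.TopCoh
import Mathlib.Topology.Sheaves.SheafCondition.UniqueGluing

/-!
# Acyclicity on an affine henselian spectrum from coverings by two basic opens
-/

set_option autoImplicit false
set_option linter.style.haveILetI false
set_option linter.unusedSectionVars false
set_option backward.isDefEq.respectTransparency false
set_option backward.isDefEq.respectTransparency.types false

universe u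

open CategoryTheory CategoryTheory.Limits CategoryTheory.Abelian Opposite TopologicalSpace AlgebraicGeometry

noncomputable section

namespace Groth.L27.SphCharP

variable {A : Type u} [CommRing A] {I : Ideal A} {X : LocallyRingedSpace.{u}} (π : X ⟶ HensSch.specLRS A)

/-- Restriction. -/
abbrev rs (F : CohTop.Ab X.toTopCat) {U V : Opens X.toTopCat} (h : V ≤ U) (s : F.obj.obj (op U)) :
    F.obj.obj (op V) :=
  F.obj.map (homOfLE h).op s

theorem rs_rs (F : CohTop.Ab X.toTopCat) {U V W : Opens X.toTopCat} (h : V ≤ U) (h' : W ≤ V) (s : F.obj.obj (op U)) :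
    rs F h' (rs F h s) = rs F (h'.trans h) s :=
  (Functor.map_comp_apply F.obj (homOfLE h).op (homOfLE h').op s).symm

theorem rs_self (F : CohTop.Ab X.toTopCat) {U : Opens X.toTopCat} (h : U ≤ U) (s : F.obj.obj (op U)) :
    rs F h s = s :=
  congr($(F.obj.map_id (op U)) s)

theorem app_rs {F G : CohTop.Ab X.toTopCat} (φ : F ⟶ G) {U V : Opens X.toTopCat} (h : V ≤ U) (s : F.obj.obj (op U)) :
    φ.hom.app (op V) (rs F h s) = rs G h (φ.hom.app (op U) s) :=
  NatTrans.naturality_apply φ.hom (homOfLE h).op s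

theorem rs_sub (F : CohTop.Ab X.toTopCat) {U V : Opens X.toTopCat} (h : V ≤ U) (s t : F.obj.obj (op U)) :
    rs F h (s - t) = rs F h s - rs F h t := map_sub (F.obj.map (homOfLE h).op).hom s t

theorem rs_add (F : CohTop.Ab X.toTopCat) {U V : Opens X.toTopCat} (h : V ≤ U) (s t : F.obj.obj (op U)) :
    rs F h (s + t) = rs F h s + rs F h t := map_add (F.obj.map (homOfLE h).op).hom s t

/-- Sections over two basic opens generate the sections over their intersection. -/
def Adds (F : CohTop.Ab X.toTopCat) : Prop :=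
  ∀ a b c : A, HensSch.dOpen π a ≤ HensSch.dOpen π c → HensSch.dOpen π b ≤ HensSch.dOpen π c →
    HensSch.dOpen π c ≤ HensSch.dOpen π a ⊔ HensSch.dOpen π b → ∀ z : F.obj.obj (op (HensSch.dOpen π (a * b))),
      ∃ (x : F.obj.obj (op (HensSch.dOpen π a))) (y : F.obj.obj (op (HensSch.dOpen π b))),
        rs F (Groth.L15.SphTilde.dOpen_mul_le_left π a b) x + rs F (Groth.L15.SphTilde.dOpen_mul_le_right π a b) y = z

theorem mem_dOpen_mul (a b : A) (v : X) :
    v ∈ HensSch.dOpen π (a * b) ↔ v ∈ HensSch.dOpen π a ∧ v ∈ HensSch.dOpen π b := by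
  show π.base v ∈ PrimeSpectrum.basicOpen (a * b) ↔ _
  rw [PrimeSpectrum.basicOpen_mul]
  exact Iff.rfl

theorem dOpen_mul (a b : A) : HensSch.dOpen π (a * b) = HensSch.dOpen π a ⊓ HensSch.dOpen π b :=
  TopologicalSpace.Opens.ext (Set.ext fun v => mem_dOpen_mul π a b v)

theorem exists_ker {S : ShortComplex (CohTop.Ab X.toTopCat)} (hS : S.ShortExact) (U : Opens X.toTopCat)
    (s : S.X₂.obj.obj (op U)) (h : S.g.hom.app (op U) s = 0) :
    ∃ t, S.f.hom.app (op U) t = s := by
  have := hS.mono_f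
  let e := Groth.L10.SiteCoh.secEquiv (Opens.grothendieckTopology X.toTopCat) U
  have hz : (e S.X₂).symm s ≫ S.g = 0 := (e S.X₃).injective (by
    rw [map_zero, Groth.L10.SiteCoh.secEquiv_comp, AddEquiv.apply_symm_apply, h])
  refine ⟨e S.X₁ (hS.exact.lift _ hz), ?_⟩
  rw [← Groth.L10.SiteCoh.secEquiv_comp, hS.exact.lift_f, AddEquiv.apply_symm_apply]

theorem exists_glue₂ (F : CohTop.Ab X.toTopCat) {U V W : Opens X.toTopCat} (hU : U ≤ W) (hV : V ≤ W)
    (hW : W ≤ U ⊔ V) (a : F.obj.obj (op U)) (b : F.obj.obj (op V))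
    (h : rs F (inf_le_left : U ⊓ V ≤ U) a = rs F (inf_le_right : U ⊓ V ≤ V) b) :
    ∃ s, rs F hU s = a ∧ rs F hV s = b := by
  let T : ULift.{u} Bool → Opens X.toTopCat := fun i => Bool.rec V U i.down
  have hT : ∀ i, T i ≤ W := fun ⟨i⟩ => Bool.rec hV hU i
  let sf : ∀ i, F.obj.obj (op (T i)) := fun ⟨i⟩ => Bool.rec b a i
  have hcomp : TopCat.Presheaf.IsCompatible F.obj T sf := by
    rintro ⟨i⟩ ⟨j⟩
    rcases i with _ | _ <;> rcases j with _ | _
    · rfl
    · have e := congrArg (rs F (le_inf inf_le_right inf_le_left : V ⊓ U ≤ U ⊓ V)) h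
      rw [rs_rs, rs_rs] at e
      exact e.symm
    · exact h
    · rfl
  obtain ⟨s, hs, -⟩ := TopCat.Sheaf.existsUnique_gluing' (F := F) T W (fun i => homOfLE (hT i))
    (fun v hv => by
      rcases hW hv with h' | h'
      · exact TopologicalSpace.Opens.mem_iSup.2 ⟨⟨true⟩, h'⟩
      · exact TopologicalSpace.Opens.mem_iSup.2 ⟨⟨false⟩, h'⟩) sf hcomp
  exact ⟨s, hs ⟨true⟩, hs ⟨false⟩⟩

theorem surjective_of_adds (hX : HensSch.IsSph A I X π) {S : ShortComplex (CohTop.Ab X.toTopCat)} (hS : S.ShortExact)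
    (hP : Adds π S.X₁) (c : A) : Function.Surjective (S.g.hom.app (op (HensSch.dOpen π c))) := by
  intro s
  haveI := hS.epi_g
  have hd0 : ∀ v : X, v ∉ HensSch.dOpen π (c * 0) := fun v hv => by
    have h0 := ((mem_dOpen_mul π c 0 v).1 hv).2
    exact h0 (zero_mem _)
  let G : Ideal A :=
    { carrier := {q | ∃ x, S.g.hom.app (op (HensSch.dOpen π (c * q))) x =
        rs S.X₃ (Groth.L15.SphTilde.dOpen_mul_le_left π c q) s}
      zero_mem' := ⟨0, TopCat.Sheaf.eq_of_locally_eq' S.X₃ (fun i : PEmpty.{u + 1} => i.elim) _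
        (fun i => i.elim) (fun v hv => absurd hv (hd0 v)) _ _ fun i => i.elim⟩
      add_mem' := by
        rintro q r ⟨x, hx⟩ ⟨y, hy⟩
        let d := c * (q + r)
        have ha : HensSch.dOpen π (d * q) ≤ HensSch.dOpen π (c * q) := fun v hv => by
          obtain ⟨h1, h2⟩ := (mem_dOpen_mul π d q v).1 hv
          exact (mem_dOpen_mul π c q v).2 ⟨((mem_dOpen_mul π c (q + r) v).1 h1).1, h2⟩
        have hb : HensSch.dOpen π (d * r) ≤ HensSch.dOpen π (c * r) := fun v hv => by
          obtain ⟨h1, h2⟩ := (mem_dOpen_mul π d r v).1 hv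
          exact (mem_dOpen_mul π c r v).2 ⟨((mem_dOpen_mul π c (q + r) v).1 h1).1, h2⟩
        have hla := Groth.L15.SphTilde.dOpen_mul_le_left π d q
        have hlb := Groth.L15.SphTilde.dOpen_mul_le_left π d r
        have hcov : HensSch.dOpen π d ≤ HensSch.dOpen π (d * q) ⊔ HensSch.dOpen π (d * r) := fun v hv => by
          by_cases hq : v ∈ HensSch.dOpen π q
          · exact Or.inl ((mem_dOpen_mul π d q v).2 ⟨hv, hq⟩)
          · refine Or.inr ((mem_dOpen_mul π d r v).2 ⟨hv, fun hr => ?_⟩)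
            exact ((mem_dOpen_mul π c (q + r) v).1 hv).2 (Ideal.add_mem _ (not_not.1 hq) hr)
        have hl := Groth.L15.SphTilde.dOpen_mul_le_left π (d * q) (d * r)
        have hr := Groth.L15.SphTilde.dOpen_mul_le_right π (d * q) (d * r)
        obtain ⟨t, ht⟩ := exists_ker hS _ (rs S.X₂ (hl.trans ha) x - rs S.X₂ (hr.trans hb) y) (by
          rw [map_sub, app_rs, app_rs, hx, hy, rs_rs, rs_rs, sub_self])
        obtain ⟨u', w', huw⟩ := hP (d * q) (d * r) d hla hlb hcov t
        let x' := rs S.X₂ ha x - S.f.hom.app _ u'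
        let y' := rs S.X₂ hb y + S.f.hom.app _ w'
        have hxy : rs S.X₂ hl x' = rs S.X₂ hr y' := by
          have e := congrArg (S.f.hom.app (op (HensSch.dOpen π (d * q * (d * r))))) huw
          rw [map_add, app_rs, app_rs, ht] at e
          show rs S.X₂ hl (rs S.X₂ ha x - _) = rs S.X₂ hr (rs S.X₂ hb y + _)
          rw [rs_sub, rs_add, rs_rs, rs_rs, sub_eq_iff_eq_add, add_assoc, ← sub_eq_iff_eq_add']
          refine e.symm.trans ?_
          abel
        obtain ⟨z, hz1, hz2⟩ := exists_glue₂ S.X₂ hla hlb hcov x' y' (by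
          have e := congrArg (rs S.X₂ (dOpen_mul π (d * q) (d * r)).ge) hxy
          rw [rs_rs, rs_rs] at e
          exact e)
        have hf0 : ∀ (U : Opens X.toTopCat) w, S.g.hom.app (op U) (S.f.hom.app (op U) w) = 0 := fun U w =>
          congr(($(S.zero)).hom.app (op U) w)
        refine ⟨z, TopCat.Sheaf.eq_of_locally_eq₂ S.X₃ (homOfLE hla) (homOfLE hlb) hcov _ _ ?_ ?_⟩
        · show rs S.X₃ hla _ = rs S.X₃ hla _
          rw [← app_rs, hz1, map_sub, hf0, sub_zero, app_rs, hx, rs_rs, rs_rs]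
        · show rs S.X₃ hlb _ = rs S.X₃ hlb _
          rw [← app_rs, hz2, map_add, hf0, add_zero, app_rs, hy, rs_rs, rs_rs]
      smul_mem' := by
        rintro r q ⟨x, hx⟩
        have h : HensSch.dOpen π (c * (r • q)) ≤ HensSch.dOpen π (c * q) := fun v hv => by
          obtain ⟨h1, h2⟩ := (mem_dOpen_mul π c (r • q) v).1 hv
          exact (mem_dOpen_mul π c q v).2 ⟨h1, ((mem_dOpen_mul π r q v).1 h2).2⟩
        exact ⟨rs S.X₂ h x, by rw [app_rs, hx, rs_rs]⟩ }
  obtain ⟨T, hT⟩ := Groth.L10.SiteCoh.locally_surjective_of_epi S.g s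
  have key : ∀ v : {v : X // v ∈ HensSch.dOpen π c}, ∃ q ∈ G, v.1 ∈ HensSch.dOpen π q := by
    rintro ⟨v, hv⟩
    obtain ⟨V, i, hi, hvV⟩ := T.2 v hv
    obtain ⟨x, hx⟩ := hT ⟨V, i, hi⟩
    obtain ⟨q, hq, hle⟩ := Groth.L05.HensSch.StalkHens.exists_basic hX v V hvV
    have h : HensSch.dOpen π (c * q) ≤ V := (Groth.L15.SphTilde.dOpen_mul_le_right π c q).trans hle
    exact ⟨q, ⟨rs S.X₂ h x, by rw [app_rs]; exact (congrArg (rs S.X₃ h) hx).trans (rs_rs S.X₃ i.le h s)⟩, hq⟩
  choose q hqG hq using key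
  have hone := Groth.L15.SphTilde.exists_cover_eq_top π hX (f := c) q fun v hv => ⟨⟨v, hv⟩, hq ⟨v, hv⟩⟩
  have htop : (I ⊔ G).map (algebraMap A (Localization.Away c)) = ⊤ := by
    rw [← top_le_iff, ← hone, Ideal.map_sup]
    refine sup_le_sup le_rfl (Ideal.span_le.2 ?_)
    rintro _ ⟨v, rfl⟩
    exact Ideal.mem_map_of_mem _ (hqG v)
  obtain ⟨w, hw, hw'⟩ := Set.not_disjoint_iff.1 fun hd =>
    (IsLocalization.map_algebraMap_ne_top_iff_disjoint (Submonoid.powers c) (Localization.Away c) (I ⊔ G)).2 hd htop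
  obtain ⟨n, rfl⟩ := hw
  obtain ⟨i, hi, r, ⟨x, hx⟩, hir⟩ := Submodule.mem_sup.1 hw'
  have hcr : HensSch.dOpen π c ≤ HensSch.dOpen π (c * r) := fun v hv => by
    refine (mem_dOpen_mul π c r v).2 ⟨hv, fun hr => hv ?_⟩
    have hiv : i ∈ (π.base v : PrimeSpectrum A).asIdeal := by
      have h1 : (π.base v : PrimeSpectrum A) ∈ PrimeSpectrum.zeroLocus (I : Set A) := hX.2.1 ▸ ⟨v, rfl⟩
      exact h1 hi
    exact (π.base v : PrimeSpectrum A).2.mem_of_pow_mem n ((show i + r = c ^ n from hir) ▸ Ideal.add_mem _ hiv hr)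
  refine ⟨rs S.X₂ hcr x, ?_⟩
  rw [app_rs, hx, rs_rs, rs_self]

theorem subsingleton_H_of_adds (hX : HensSch.IsSph A I X π) (F : CohTop.Ab X.toTopCat) (hF : Adds π F) (n : ℕ) :
    Subsingleton (CohTop.H F (n + 1)) := by
  have e : HensSch.dOpen π (1 : A) = ⊤ := by
    refine TopologicalSpace.Opens.ext (Set.ext fun v => ⟨fun _ => trivial, fun _ => ?_⟩)
    exact (Ideal.ne_top_iff_one _).mp (π.base v : PrimeSpectrum A).2.ne_top
  have h := Groth.L10.SiteCoh.subsingleton_of_class (Adds π) (HensSch.dOpen π (1 : A))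
    (fun S hS hP => surjective_of_adds π hX hS hP 1)
    (fun S hS hP hI a b c ha hb hc z => by
      obtain ⟨z₂, hz₂⟩ := surjective_of_adds π hX hS hP (a * b) z
      haveI : Mono (homOfLE (Groth.L15.SphTilde.dOpen_mul_le_left π a b)) := ⟨fun _ _ _ => Subsingleton.elim _ _⟩
      obtain ⟨x, hx⟩ := Groth.L10.SiteCoh.surjective_map_of_injective S.X₂
        (homOfLE (Groth.L15.SphTilde.dOpen_mul_le_left π a b)) z₂
      refine ⟨S.g.hom.app _ x, 0, ?_⟩
      rw [show rs S.X₃ (Groth.L15.SphTilde.dOpen_mul_le_right π a b) (0 : S.X₃.obj.obj _) = 0 from map_zero _,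
        add_zero, ← app_rs]
      exact (congrArg _ hx).trans hz₂) F hF n
  rw [e] at h
  exact (Groth.L10.SiteCoh.hEquiv (Groth.L10.TopCoh.topTerminal X.toTopCat) F (n + 1)).toEquiv.subsingleton

end Groth.L27.SphCharP
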