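import Groth.Agent.L27.EtSite.ClosedCover
import Groth.Agent.L27.EtSite.Push
import Groth.Agent.L27.LimCoh.GammaSys
import Groth.Agent.L27.MV.SES
import Groth.Agent.L27.HenselProperClopen
import Groth.Prelude.Def_EtLim

/-!
# Functions near the special fibre, as an etale sheaf

For a pair `(A, I)` the sheaf `Gt I = i_* i^* G_a` on `Spec A`, and its functoriality in the pair.
-/

set_option autoImplicit false
set_option linter.style.haveILetI false
set_option linter.unusedSectionVars false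
set_option backward.isDefEq.respectTransparency.types false

universe u

open CategoryTheory CategoryTheory.Limits AlgebraicGeometry Opposite

noncomputable section

namespace Groth.L27.SphCharP

/-- The closed immersion of the special fibre. -/
abbrev ιI {A : Type u} [CommRing A] (I : Ideal A) : Spec (CommRingCat.of (A ⧸ I)) ⟶ Spec (CommRingCat.of A) :=
  Spec.map (CommRingCat.ofHom (Ideal.Quotient.mk I))

instance {A : Type u} [CommRing A] (I : Ideal A) : IsClosedImmersion (ιI I) :=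
  IsClosedImmersion.spec_of_surjective _ Ideal.Quotient.mk_surjective

/-- The map on spectra. -/
abbrev sp {A B : Type u} [CommRing A] [CommRing B] (φ : A →+* B) :
    Spec (CommRingCat.of B) ⟶ Spec (CommRingCat.of A) :=
  Spec.map (CommRingCat.ofHom φ)

/-- Functions near the special fibre. -/
abbrev Gt {A : Type u} [CommRing A] (I : Ideal A) : EtCoh.Ab (Spec (CommRingCat.of A)) :=
  (EtCoh.push (ιI I)).obj ((EtCoh.pull (ιI I)).obj (EtCoh.Ga (Spec (CommRingCat.of A))))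

/-- The germ of a function along the special fibre. -/
abbrev germ {A : Type u} [CommRing A] (I : Ideal A) : EtCoh.Ga (Spec (CommRingCat.of A)) ⟶ Gt I :=
  (EtCoh.pullPushAdj (ιI I)).unit.app _

variable {A : Type u} [CommRing A] (I : Ideal A) {B : Type u} [CommRing B] (φ : A →+* B) (J : Ideal B)

/-- Pull a function back, then take its germ. -/
abbrev μ : EtCoh.Ga (Spec (CommRingCat.of A)) ⟶ (EtCoh.push (sp φ)).obj (Gt J) :=
  EtLim.GaPush (sp φ) ≫ (EtCoh.push (sp φ)).map (germ J)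

theorem isEmpty_bc {V : (Spec (CommRingCat.of A)).Etale} (hle : I.map φ ≤ J)
    (hV : IsEmpty ((EtCoh.bc (ιI I)).obj V).left) :
    IsEmpty ((EtCoh.bc (ιI J)).obj ((EtCoh.bc (sp φ)).obj V)).left := ⟨fun z => by
  let q : ((EtCoh.bc (sp φ)).obj V).left := LimCoh.fstB (ιI J) _ z
  have h1 : ((EtCoh.bc (sp φ)).obj V).hom q =
      ιI J (((EtCoh.bc (ιI J)).obj ((EtCoh.bc (sp φ)).obj V)).hom z) :=
    (Scheme.Hom.comp_apply _ _ _).symm.trans
      ((congrArg (fun m : ((EtCoh.bc (ιI J)).obj ((EtCoh.bc (sp φ)).obj V)).left ⟶ Spec (CommRingCat.of B) => m z)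
        (LimCoh.fstB_w _ _)).trans (Scheme.Hom.comp_apply _ _ _))
  have h2 : V.hom (LimCoh.fstB (sp φ) V q) = sp φ (((EtCoh.bc (sp φ)).obj V).hom q) :=
    (Scheme.Hom.comp_apply _ _ _).symm.trans
      ((congrArg (fun m : ((EtCoh.bc (sp φ)).obj V).left ⟶ Spec (CommRingCat.of A) => m q)
        (LimCoh.fstB_w _ _)).trans (Scheme.Hom.comp_apply _ _ _))
  have h3 : V.hom (LimCoh.fstB (sp φ) V q) ∈ Set.range (ιI I) := by
    rw [h2, h1, Groth.L27.HenselProper.range_ι]
    intro a ha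
    let w := ((EtCoh.bc (ιI J)).obj ((EtCoh.bc (sp φ)).obj V)).hom z
    show φ a ∈ (PrimeSpectrum.comap (Ideal.Quotient.mk J) w).asIdeal
    have : φ a ∈ J := hle (Ideal.mem_map_of_mem φ ha)
    show Ideal.Quotient.mk J (φ a) ∈ (w : PrimeSpectrum (B ⧸ J)).asIdeal
    rw [Ideal.Quotient.eq_zero_iff_mem.2 this]
    exact zero_mem _
  obtain ⟨t, ht⟩ := h3
  obtain ⟨p, -, -⟩ := Scheme.Pullback.exists_preimage_pullback (f := V.hom) (g := ιI I) _ _ ht.symm
  exact hV.false p⟩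

theorem isIso_unit_push (hle : I.map φ ≤ J) :
    IsIso ((EtCoh.pullPushAdj (ιI I)).unit.app ((EtCoh.push (sp φ)).obj (Gt J))) := by
  refine (EtSite.isIso_unit_iff (ιI I) (EtSite.propA_of_isIntegralHom (ιI I)) _).2 ?_
  rintro x ⟨Ω, _, _, η, hη, hne⟩
  by_contra hx
  have hd : η.base default ∉ Set.range (ιI I).base := by
    rw [show η.base default = x from hη.subset ⟨default, rfl⟩]
    exact hx
  haveI : Subsingleton ((EtCoh.stalk η).obj ((EtCoh.push (sp φ)).obj (Gt J))) := ⟨fun p q => by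
    obtain ⟨V, y, s, t, rfl, rfl⟩ := (Scheme.pointSmallEtale η).toPresheafFiber_jointly_surjective₂ p q
    obtain ⟨V', a, y', hy', he⟩ := EtSite.exists_nbhd_avoid (ιI I) η hd V y
    haveI := isEmpty_bc I φ J hle he
    refine ((Scheme.pointSmallEtale η).toPresheafFiber_eq_iff' _ _ _ _).2 ⟨V', a, y', hy', ?_⟩
    exact (EtSite.subsingleton_of_isEmpty
      ((sheafCompose _ (forget AddCommGrpCat.{u + 1})).obj ((EtCoh.pull (ιI J)).obj (EtCoh.Ga _)))
      ((EtCoh.bc (ιI J)).obj ((EtCoh.bc (sp φ)).obj V'))).elim _ _⟩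
  exact hne (AddCommGrpCat.isZero_of_subsingleton _)

/-- The comparison of germs along a map of pairs. -/
def ψ (hle : I.map φ ≤ J) : Gt I ⟶ (EtCoh.push (sp φ)).obj (Gt J) :=
  (EtCoh.push (ιI I)).map ((EtCoh.pull (ιI I)).map (μ φ J)) ≫
    (@asIso _ _ _ _ ((EtCoh.pullPushAdj (ιI I)).unit.app ((EtCoh.push (sp φ)).obj (Gt J)))
      (isIso_unit_push I φ J hle)).inv

theorem germ_ψ (hle : I.map φ ≤ J) : germ I ≫ ψ I φ J hle = μ φ J := by
  have h := (EtCoh.pullPushAdj (ιI I)).unit.naturality (μ φ J)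
  rw [Functor.id_map, Functor.comp_map] at h
  refine Eq.trans ((Category.assoc _ _ _).symm.trans ((congrArg (· ≫ _) h.symm).trans (Category.assoc _ _ _))) ?_
  exact (congrArg (μ φ J ≫ ·) (@asIso _ _ _ _ _ (isIso_unit_push I φ J hle)).hom_inv_id).trans (Category.comp_id _)

theorem germ_ψ_app (hle : I.map φ ≤ J) (V : (Spec (CommRingCat.of A)).Etale)
    (c : (EtCoh.Ga (Spec (CommRingCat.of A))).obj.obj (op V)) :
    (ψ I φ J hle).hom.app (op V) ((germ I).hom.app (op V) c) =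
      (germ J).hom.app (op ((EtCoh.bc (sp φ)).obj V))
        (EtCoh.ΓAdd.map (LimCoh.fstB (sp φ) V).op c) :=
  congr(($(germ_ψ I φ J hle)).hom.app (op V) c)

variable {C : Type u} [CommRing C] (χ : B →+* C) {k : A →+* C} (L : Ideal C)

theorem sp_comp (hk : χ.comp φ = k) : sp χ ≫ sp φ = sp k := by
  subst hk
  rw [← Spec.map_comp]
  rfl

theorem GaPush_comp {X Y Z : Scheme.{u}} (f : Z ⟶ Y) (g : Y ⟶ X) {q : Z ⟶ X} (w : f ≫ g = q) :
    EtLim.GaPush q = EtLim.GaPush g ≫ (EtCoh.push g).map (EtLim.GaPush f) ≫ LimCoh.pushJoin f g w (EtCoh.Ga Z) :=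
  LimCoh.bigPush_comp ⟨EtCoh.ΓAdd, EtCoh.isSheaf_ΓAdd⟩ f g w

theorem ψ_comp (hk : χ.comp φ = k) (h₁ : I.map φ ≤ J) (h₂ : J.map χ ≤ L) (h₃ : I.map k ≤ L) :
    ψ I k L h₃ = ψ I φ J h₁ ≫ (EtCoh.push (sp φ)).map (ψ J χ L h₂) ≫
      LimCoh.pushJoin (sp χ) (sp φ) (sp_comp φ χ hk) (Gt L) := by
  haveI : Epi (germ I) := Groth.L27.ClosedCover.epi_unit (ιI I) (EtCoh.Ga (Spec (CommRingCat.of A)))
  rw [← cancel_epi (germ I), germ_ψ, ← Category.assoc, germ_ψ, μ, μ, GaPush_comp (sp χ) (sp φ) (sp_comp φ χ hk),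
    Category.assoc, Category.assoc, Category.assoc]
  refine congrArg (EtLim.GaPush (sp φ) ≫ ·) ?_
  refine Eq.trans ?_ (Category.assoc _ _ _)
  rw [← Functor.map_comp, germ_ψ, μ, Functor.map_comp, Category.assoc]
  refine congrArg ((EtCoh.push (sp φ)).map (EtLim.GaPush (sp χ)) ≫ ·) ?_
  exact LimCoh.sheafHom_ext fun V s => (NatTrans.naturality_apply (germ L).hom _ s)

end Groth.L27.SphCharP
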