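import Groth.Agent.L27.SphCharP.Surj
import Groth.Agent.S0121
import Groth.Agent.L28.EtCartan.ZarGa
import Groth.Agent.L17.AffineVanishing
import Groth.Agent.L19.ConormalAffine
import Mathlib.Algebra.CharP.Basic

/-!
# Zariski descent of henselizations in characteristic `p`
-/

set_option autoImplicit false
set_option linter.style.haveILetI false
set_option linter.unusedSectionVars false
set_option backward.isDefEq.respectTransparency.types false

universe u

open CategoryTheory CategoryTheory.Limits AlgebraicGeometry Opposite CategoryTheory.Abelian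

noncomputable section

namespace Groth.L27.SphCharP

variable {A : Type u} [CommRing A] (I : Ideal A) [HenselianRing A I]

theorem isTorsion_Ga (p : ℕ) [Fact p.Prime] (hp : (p : A) = 0) : EtCoh.IsTorsion (EtCoh.Ga (Spec (CommRingCat.of A))) := by
  intro U s x
  refine ⟨U, 𝟙 U, ⟨x, rfl⟩, isOfFinAddOrder_iff_nsmul_eq_zero.2 ⟨p, (Fact.out : p.Prime).pos, ?_⟩⟩
  have h0 : (p : Γ(Spec (CommRingCat.of A), ⊤)) = 0 := by
    have := congrArg (Scheme.ΓSpecIso (CommRingCat.of A)).inv.hom hp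
    rwa [map_natCast, map_zero] at this
  have hU : (p : Γ(U.left, ⊤)) = 0 := W4c5etcohweilstudent.natCast_eq_zero_etale p h0 U
  rw [← map_nsmul, show p • s = 0 from ?_, map_zero]
  refine congrArg ULift.up (show p • s.down = 0 from ?_)
  exact (nsmul_eq_mul _ _).trans ((congrArg (· * _) hU).trans (zero_mul _))

theorem subsingleton_H_Gt (p : ℕ) [Fact p.Prime] (hp : (p : A) = 0) :
    Subsingleton (EtCoh.H (Spec (CommRingCat.of A)) (Gt I) 1) := by
  haveI : Coh.IsQCoh (Coh.structureModule (Spec (CommRingCat.of A))) :=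
    Groth.L19.Conormal.isQCoh_structureModule _
  haveI : Subsingleton (Coh.HH (Spec (CommRingCat.of A)) (Coh.structureModule (Spec (CommRingCat.of A))) 1) :=
    Groth.L17.subsingleton_HH_of_isAffine _ _ 0
  obtain ⟨e⟩ := Groth.L28.EtCartan.nonempty_H_Ga (Spec (CommRingCat.of A)) 1
  have hs := e.toEquiv.subsingleton
  have hb := (Groth.Agent.S0121.result A I _ (isTorsion_Ga (A := A) p hp) 1).2
  exact ⟨fun a b => by
    obtain ⟨a', rfl⟩ := hb a
    obtain ⟨b', rfl⟩ := hb b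
    exact congrArg _ (hs.elim a' b')⟩

theorem exists_sub_eq {X : Scheme.{u}} (U V : X.Opens) (hUV : U ⊔ V = ⊤) (F : EtCoh.Ab X)
    (hF : Subsingleton (EtCoh.H X F 1)) (t : F.obj.obj (op (MV.oE (U ⊓ V)))) :
    ∃ (a : F.obj.obj (op (MV.oE U))) (b : F.obj.obj (op (MV.oE V))),
      F.obj.map (MV.oHom (inf_le_left : U ⊓ V ≤ U)).op a -
        F.obj.map (MV.oHom (inf_le_right : U ⊓ V ≤ V)).op b = t := by
  let φ := (Colim.homEquiv (MV.oE (U ⊓ V)) F).symm t
  have hS := MV.shortExact_mvE U V hUV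
  obtain ⟨x, hx⟩ := Ext.contravariant_sequence_exact₁ hS F (Ext.mk₀ φ) (n₁ := 1) (add_zero 1)
    (@Subsingleton.elim _ hF _ _)
  obtain ⟨g, rfl⟩ := (Ext.mk₀_bijective _ _).2 x
  rw [Ext.mk₀_comp_mk₀] at hx
  have hg := (Ext.mk₀_bijective _ _).1 hx
  refine ⟨Colim.homEquiv _ F (biprod.inl ≫ g), Colim.homEquiv _ F (biprod.inr ≫ g), ?_⟩
  rw [← MV.homEquiv_freeMap_comp, ← MV.homEquiv_freeMap_comp, ← map_sub]
  refine (congrArg (Colim.homEquiv (MV.oE (U ⊓ V)) F) (?_ : _ = φ)).trans (AddEquiv.apply_symm_apply _ t)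
  rw [← hg]
  show _ = biprod.lift _ _ ≫ g
  rw [biprod.lift_eq, Preadditive.add_comp, Category.assoc, Category.assoc, Preadditive.neg_comp, sub_eq_add_neg]

/-- The key surjectivity. -/
theorem exists_add_eq (p : ℕ) [Fact p.Prime] (hp : (p : A) = 0) {g h k : A}
    (hcov : Ideal.span {g, h} = ⊤) (hk : Dop k = Dop g ⊓ Dop h)
    {Bg Bh Bk : Type u} [CommRing Bg] [CommRing Bh] [CommRing Bk] [Algebra A Bg] [Algebra A Bh] [Algebra A Bk]
    (hg : HensSch.IsHensAway A I g Bg (algebraMap A Bg)) (hh : HensSch.IsHensAway A I h Bh (algebraMap A Bh))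
    (hkk : HensSch.IsHensAway A I k Bk (algebraMap A Bk)) (rg : Bg →ₐ[A] Bk) (rh : Bh →ₐ[A] Bk) (z : Bk) :
    ∃ x y, rg x + rh y = z := by
  haveI := hg.2.1
  haveI := hh.2.1
  haveI := hkk.2.1
  obtain ⟨s, hs⟩ := exists_Ψ_eq I hkk z
  have hUV : Dop g ⊔ Dop h = ⊤ := by
    refine top_le_iff.1 fun v _ => ?_
    by_contra hn
    have hn' : g ∈ (v : PrimeSpectrum A).asIdeal ∧ h ∈ (v : PrimeSpectrum A).asIdeal := by
      constructor
      · by_contra h'
        exact hn (le_sup_left (a := Dop g) (b := Dop h) h')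
      · by_contra h'
        exact hn (le_sup_right (a := Dop g) (b := Dop h) h')
    refine (v : PrimeSpectrum A).2.ne_top (top_le_iff.1 (hcov ▸ Ideal.span_le.2 ?_))
    intro w hw
    rcases hw with rfl | rfl
    · exact hn'.1
    · exact hn'.2
  obtain ⟨a, b, hab⟩ := exists_sub_eq (Dop g) (Dop h) hUV (Gt I) (subsingleton_H_Gt I p hp)
    ((Gt I).obj.map (MV.oHom hk.ge).op s)
  obtain ⟨x, hx⟩ := (g0_bijective (I.map (algebraMap A Bg))).2 (Ψ I hg.1 (I.map (algebraMap A Bg)) le_rfl a)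
  obtain ⟨y, hy⟩ := (g0_bijective (I.map (algebraMap A Bh))).2 (Ψ I hh.1 (I.map (algebraMap A Bh)) le_rfl b)
  refine ⟨x, -y, (g0_bijective (I.map (algebraMap A Bk))).1 ?_⟩
  have hm : ∀ {B : Type u} [CommRing B] [Algebra A B] (r : B →ₐ[A] Bk),
      (I.map (algebraMap A B)).map r.toRingHom ≤ I.map (algebraMap A Bk) := fun r => by
    rw [Ideal.map_map]
    exact le_of_eq (congrArg (fun m => I.map m) r.comp_algebraMap)
  have h1 := Ψ_restrict I hg.1 (I.map (algebraMap A Bg)) le_rfl rg.toRingHom rg.comp_algebraMap hkk.1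
    (I.map (algebraMap A Bk)) le_rfl (hm rg) (hk.le.trans inf_le_left) a x hx.symm
  have h2 := Ψ_restrict I hh.1 (I.map (algebraMap A Bh)) le_rfl rh.toRingHom rh.comp_algebraMap hkk.1
    (I.map (algebraMap A Bk)) le_rfl (hm rh) (hk.le.trans inf_le_right) b y hy.symm
  rw [g0_add, ← hs]
  have hneg : g0 (I.map (algebraMap A Bk)) (rh (-y)) = - g0 (I.map (algebraMap A Bk)) (rh y) := by
    refine eq_neg_of_add_eq_zero_left ?_
    rw [← g0_add, ← map_add, neg_add_cancel, map_zero]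
    show (germ _).hom.app _ (fnOf 0) = 0
    rw [show fnOf (H := Bk) 0 = 0 from congrArg ULift.up (map_zero _), map_zero]
  rw [hneg, ← sub_eq_add_neg]
  refine (congrArg₂ (· - ·) h1.symm h2.symm).trans ((map_sub _ _ _).symm.trans (congrArg _ ?_))
  have e := congrArg ((Gt I).obj.map (MV.oHom (hk.le : Dop k ≤ Dop g ⊓ Dop h)).op) hab
  rw [map_sub] at e
  have hcomp : ∀ {W W' W'' : (Spec (CommRingCat.of A)).Opens} (h₁ : W ≤ W') (h₂ : W' ≤ W'') (h₃ : W ≤ W'')
      (c : (Gt I).obj.obj (op (MV.oE W''))),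
      (Gt I).obj.map (MV.oHom h₁).op ((Gt I).obj.map (MV.oHom h₂).op c) = (Gt I).obj.map (MV.oHom h₃).op c := by
    intro W W' W'' h₁ h₂ h₃ c
    refine (Functor.map_comp_apply (Gt I).obj _ _ c).symm.trans ?_
    rw [← op_comp, MV.hom_oE_subsingleton (MV.oHom h₁ ≫ MV.oHom h₂) (MV.oHom h₃)]
  rw [hcomp _ _ (hk.le.trans inf_le_left), hcomp _ _ (hk.le.trans inf_le_right), hcomp _ _ le_rfl] at e
  refine e.trans ?_
  rw [MV.hom_oE_subsingleton (MV.oHom (le_refl (Dop k))) (𝟙 _)]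
  exact congr($((Gt I).obj.map_id _) s)

end Groth.L27.SphCharP
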