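import Groth.Agent.L27.SphCharP.Key
import Groth.Agent.L27.SphCharP.Basis
import Groth.Agent.L15.SphTilde.App
import Mathlib.RingTheory.Jacobson.Ideal
import Mathlib.LinearAlgebra.TensorProduct.RightExactness

/-!
# Quasi-coherent modules on affine henselian spectra in characteristic `p` are acyclic
-/

set_option autoImplicit false
set_option linter.style.haveILetI false
set_option linter.unusedSectionVars false
set_option backward.isDefEq.respectTransparency false
set_option backward.isDefEq.respectTransparency.types false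

universe u

open CategoryTheory Opposite TopologicalSpace AlgebraicGeometry TensorProduct
open Groth.L15.SphTilde

noncomputable section

namespace Groth.L27.SphCharP

variable {A : Type u} [CommRing A] {I : Ideal A}

theorem isHensAway_over {c a : A} {B B' : Type u} [CommRing B] [CommRing B'] [Algebra A B] [Algebra A B']
    (hc : HensSch.IsHensAway A I c B (algebraMap A B)) (ha : HensSch.IsHensAway A I a B' (algebraMap A B'))
    (r : B →ₐ[A] B') :
    HensSch.IsHensAway B (I.map (algebraMap A B)) (algebraMap A B a) B' r.toRingHom := by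
  have hm : r.toRingHom.comp (algebraMap A B) = algebraMap A B' := r.comp_algebraMap
  refine ⟨?_, ?_, fun C _ J k hC hk hu => ?_⟩
  · show IsUnit (r (algebraMap A B a))
    rw [r.commutes]
    exact ha.1
  · rw [Ideal.map_map, hm]
    exact ha.2.1
  · have hle : I.map (k.comp (algebraMap A B)) ≤ J := by rwa [← Ideal.map_map]
    obtain ⟨t, ht, htu⟩ := ha.2.2 C J (k.comp (algebraMap A B)) hC hle hu
    obtain ⟨s, -, hsu⟩ := hc.2.2 C J (k.comp (algebraMap A B)) hC hle (hc.1.map k)
    refine ⟨t, (hsu _ ?_).trans (hsu k rfl).symm, fun t' ht' => htu t' ?_⟩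
    · show (t.comp r.toRingHom).comp (algebraMap A B) = _
      rw [RingHom.comp_assoc, hm, ht]
    · show t'.comp (algebraMap A B') = _
      rw [← ht', RingHom.comp_assoc, hm]

variable {X : LocallyRingedSpace.{u}} (π : X ⟶ HensSch.specLRS A)

theorem span_eq_top (hX : HensSch.IsSph A I X π) {a b c : A}
    (hcov : HensSch.dOpen π c ≤ HensSch.dOpen π a ⊔ HensSch.dOpen π b) :
    Ideal.span {algebraMap A (H π c) a, algebraMap A (H π c) b} = ⊤ := by
  let g : ULift.{u} Bool → A := fun i => Bool.rec b a i.down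
  have h1 := exists_cover_eq_top π hX (f := c) g fun v hv => by
    rcases hcov hv with h | h
    · exact ⟨⟨true⟩, h⟩
    · exact ⟨⟨false⟩, h⟩
  have h2 := congrArg (Ideal.map (IsLocalization.Away.lift (S := Localization.Away c)
    (g := algebraMap A (H π c)) c (hX.2.2 c).1)) h1
  rw [Ideal.map_sup, Ideal.map_map, IsLocalization.Away.lift_comp, Ideal.map_top, Ideal.map_span] at h2
  obtain ⟨x, hx, y, hy, hxy⟩ := Submodule.mem_sup.1 ((Ideal.eq_top_iff_one _).1 h2)
  refine Ideal.eq_top_of_isUnit_mem (x := y) _ (Ideal.span_le.2 ?_ hy) ?_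
  · rintro _ ⟨_, ⟨⟨i⟩, rfl⟩, rfl⟩
    rw [SetLike.mem_coe, IsLocalization.Away.lift_eq]
    rcases i with _ | _
    · exact Ideal.subset_span (Or.inr rfl)
    · exact Ideal.subset_span (Or.inl rfl)
  · have hj := (hX.2.2 c).2.1.jac hx
    have hu := Ideal.mem_jacobson_bot.1 hj (-1)
    rwa [show x * -1 + 1 = y by linear_combination (-1 : H π c) * hxy] at hu

theorem adds_tilde (hX : HensSch.IsSph A I X π) (p : ℕ) [Fact p.Prime] (hp : (p : A) = 0) (M : ModuleCat.{u} A) :
    Adds π (ModSite.toAb (MT π M)) := by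
  intro a b c ha hb hcov z
  have hka := dOpen_mul_le_left π a b
  have hkb := dOpen_mul_le_right π a b
  let ra := res π ha
  let rb := res π hb
  let rk := res π (hka.trans ha)
  haveI : HenselianRing (H π c) (I.map (algebraMap A (H π c))) := (hX.2.2 c).2.1
  letI : Algebra (H π c) (H π a) := ra.toRingHom.toAlgebra
  letI : Algebra (H π c) (H π b) := rb.toRingHom.toAlgebra
  letI : Algebra (H π c) (H π (a * b)) := rk.toRingHom.toAlgebra
  let r1 : H π a →ₐ[H π c] H π (a * b) :=
    { (res π hka).toRingHom with commutes' := fun x => res_res π ha hka x }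
  let r2 : H π b →ₐ[H π c] H π (a * b) :=
    { (res π hkb).toRingHom with commutes' := fun x => res_res π hb hkb x }
  have hk : Dop (algebraMap A (H π c) (a * b)) =
      Dop (algebraMap A (H π c) a) ⊓ Dop (algebraMap A (H π c) b) := by
    show PrimeSpectrum.basicOpen (algebraMap A (H π c) (a * b)) = _
    rw [map_mul, PrimeSpectrum.basicOpen_mul]
  have hp' : (p : H π c) = 0 := by rw [← map_natCast (algebraMap A (H π c)), hp, map_zero]
  have key := exists_add_eq (I.map (algebraMap A (H π c))) p hp' (span_eq_top π hX hcov) hk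
    (isHensAway_over (hX.2.2 c) (hX.2.2 a) ra) (isHensAway_over (hX.2.2 c) (hX.2.2 b) rb)
    (isHensAway_over (hX.2.2 c) (hX.2.2 (a * b)) rk) r1 r2
  obtain ⟨w, hw⟩ := (α₀_bijective π M (f := a * b) hX).2 z
  suffices h : ∀ w : H π (a * b) ⊗[A] M, ∃ x y,
      (res π hka).toLinearMap.rTensor M x + (res π hkb).toLinearMap.rTensor M y = w by
    obtain ⟨x, y, hxy⟩ := h w
    refine ⟨α₀ π M a x, α₀ π M b y, ?_⟩
    show mres (MT π M) hka (α₀ π M a x) + mres (MT π M) hkb (α₀ π M b y) = z
    rw [← α₀_res, ← α₀_res, ← map_add, hxy, hw]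
  intro w
  induction w using TensorProduct.induction_on with
  | zero => exact ⟨0, 0, by rw [map_zero, map_zero, add_zero]⟩
  | tmul s m =>
    obtain ⟨x, y, hxy⟩ := key s
    refine ⟨x ⊗ₜ m, y ⊗ₜ m, ?_⟩
    rw [LinearMap.rTensor_tmul, LinearMap.rTensor_tmul, ← TensorProduct.add_tmul]
    exact congrArg (· ⊗ₜ[A] m) hxy
  | add u v hu hv =>
    obtain ⟨x, y, rfl⟩ := hu
    obtain ⟨x', y', rfl⟩ := hv
    exact ⟨x + x', y + y', by rw [map_add, map_add]; abel⟩

theorem adds_of_iso {F G : ModSite.Mod X.sheaf} (e : F ≅ G) (h : Adds π (ModSite.toAb F)) :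
    Adds π (ModSite.toAb G) := by
  intro a b c ha hb hcov z
  let φ := (SheafOfModules.toSheaf (ModSite.ringSh X.sheaf)).mapIso e
  obtain ⟨x, y, hxy⟩ := h a b c ha hb hcov (φ.inv.hom.app _ z)
  refine ⟨φ.hom.hom.app _ x, φ.hom.hom.app _ y, ?_⟩
  refine (congrArg₂ (· + ·) (app_rs φ.hom (Groth.L15.SphTilde.dOpen_mul_le_left π a b) x).symm
    (app_rs φ.hom (Groth.L15.SphTilde.dOpen_mul_le_right π a b) y).symm).trans ?_
  refine ((map_add _ _ _).symm.trans (congrArg _ hxy)).trans ?_
  exact congr(($(φ.inv_hom_id)).hom.app _ z)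

theorem subsingleton_HC (hX : HensSch.IsSph A I X π) (p : ℕ) [Fact p.Prime] (hp : (p : A) = 0)
    (F : (Spec (CommRingCat.of A)).Modules) [F.IsQuasicoherent] (n : ℕ) :
    Subsingleton (ModSite.HC X.sheaf ((HensSch.pullMod π).obj F) (n + 1)) := by
  haveI : IsIso (Scheme.Modules.fromTildeΓ (R := CommRingCat.of A) F) :=
    Scheme.Modules.isIso_fromTildeΓ_of_isQuasicoherent (R := CommRingCat.of A) F
  exact subsingleton_H_of_adds π hX _
    (adds_of_iso π ((HensSch.pullMod π).mapIso (asIso (Scheme.Modules.fromTildeΓ (R := CommRingCat.of A) F))) (adds_tilde π hX p hp _)) n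

end Groth.L27.SphCharP
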