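import Groth.Agent.L27.SphCharP.Gt
import Groth.Agent.S0122

/-!
# Evaluating germs along the special fibre in a henselian algebra
-/

set_option autoImplicit false
set_option linter.style.haveILetI false
set_option linter.unusedSectionVars false
set_option backward.isDefEq.respectTransparency.types false

universe u

open CategoryTheory CategoryTheory.Limits AlgebraicGeometry Opposite

noncomputable section

namespace Groth.L27.SphCharP

open LimCoh

variable {A : Type u} [CommRing A] (I : Ideal A) {H : Type u} [CommRing H]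

/-- The basic open. -/
abbrev Dop (f : A) : (Spec (CommRingCat.of A)).Opens := PrimeSpectrum.basicOpen f

/-- The basic open, as an etale scheme. -/
abbrev oD (f : A) : (Spec (CommRingCat.of A)).Etale := MV.oE (Dop f)

theorem hom_bc_oD_subsingleton {Y : Scheme.{u}} (a : Y ⟶ Spec (CommRingCat.of A)) (f : A) {T : Y.Etale}
    (p q : T ⟶ (EtCoh.bc a).obj (oD f)) : p = q := by
  refine bc_hom_ext a ((cancel_mono (Dop f).ι).1 ?_)
  have e : ∀ p : T ⟶ (EtCoh.bc a).obj (oD f), (p.left ≫ fstB a (oD f)) ≫ (Dop f).ι = T.hom ≫ a := fun p =>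
    (Category.assoc _ _ _).trans ((congrArg (p.left ≫ ·) (fstB_w a (oD f))).trans
      ((Category.assoc _ _ _).symm.trans (congrArg (· ≫ a) (MorphismProperty.Over.w p))))
  exact (e p).trans (e q).symm

variable (φ : A →+* H)

/-- A section of a base change. -/
def topLift {V : (Spec (CommRingCat.of A)).Etale} (r : Spec (CommRingCat.of H) ⟶ V.left)
    (hr : r ≫ V.hom = sp φ) : EtCoh.top (Spec (CommRingCat.of H)) ⟶ (EtCoh.bc (sp φ)).obj V :=
  LimCoh.lift (sp φ) r (hr.trans (Category.id_comp _).symm)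

theorem topLift_fstB {V : (Spec (CommRingCat.of A)).Etale} (r : Spec (CommRingCat.of H) ⟶ V.left)
    (hr : r ≫ V.hom = sp φ) : (topLift φ r hr).left ≫ fstB (sp φ) V = r :=
  lift_fstB _ _ _

variable {φ} {f : A} (hf : IsUnit (φ f))

include hf in
theorem range_sp_subset : Set.range (sp φ) ⊆ Set.range (Dop f).ι := by
  rw [Scheme.Opens.range_ι]
  rintro _ ⟨p, rfl⟩
  intro h
  exact (p : PrimeSpectrum H).2.ne_top (Ideal.eq_top_of_isUnit_mem _ h hf)

/-- The lift of the spectrum into the basic open. -/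
def rD : Spec (CommRingCat.of H) ⟶ (Dop f : Scheme.{u}) := IsOpenImmersion.lift (Dop f).ι (sp φ) (range_sp_subset hf)

theorem rD_w : rD hf ≫ (oD f).hom = sp φ := IsOpenImmersion.lift_fac _ _ _

/-- The canonical section. -/
def topD : EtCoh.top (Spec (CommRingCat.of H)) ⟶ (EtCoh.bc (sp φ)).obj (oD f) := topLift φ (rD hf) (rD_w hf)

/-- A ring element as a function. -/
def fnOf (x : H) : (EtCoh.Ga (Spec (CommRingCat.of H))).obj.obj (op (EtCoh.top (Spec (CommRingCat.of H)))) :=
  ULift.up ((Scheme.ΓSpecIso (CommRingCat.of H)).inv.hom x)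

/-- The germ of an element. -/
def g0 (J : Ideal H) (x : H) : (Gt J).obj.obj (op (EtCoh.top (Spec (CommRingCat.of H)))) :=
  (germ J).hom.app _ (fnOf x)

theorem g0_add (J : Ideal H) (x y : H) : g0 J (x + y) = g0 J x + g0 J y := by
  show (germ J).hom.app _ (fnOf (x + y)) = _
  rw [show fnOf (x + y) = fnOf x + fnOf y from congrArg ULift.up (map_add _ x y)]
  exact map_add _ _ _

theorem g0_bijective (J : Ideal H) [HenselianRing H J] : Function.Bijective (g0 J) := by
  refine (Groth.Agent.S0122.result H J (EtCoh.Ga (Spec (CommRingCat.of H)))).comp ⟨fun a b h => ?_, fun c => ?_⟩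
  · exact (Scheme.ΓSpecIso (CommRingCat.of H)).commRingCatIsoToRingEquiv.symm.injective (congrArg ULift.down h)
  · exact ⟨(Scheme.ΓSpecIso (CommRingCat.of H)).hom.hom c.down,
      congrArg ULift.up ((Scheme.ΓSpecIso (CommRingCat.of H)).hom_inv_id_apply c.down)⟩

variable (J : Ideal H) (hle : I.map φ ≤ J)

/-- Evaluation of a germ on a basic open. -/
def Ψ : (Gt I).obj.obj (op (oD f)) →+ (Gt J).obj.obj (op (EtCoh.top (Spec (CommRingCat.of H)))) :=
  ((Gt J).obj.map (topD hf).op).hom.comp ((ψ I φ J hle).hom.app (op (oD f))).hom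

theorem Ψ_germ {W : (Spec (CommRingCat.of A)).Etale} (g : W ⟶ oD f) (r : Spec (CommRingCat.of H) ⟶ W.left)
    (hr : r ≫ W.hom = sp φ) (c : (EtCoh.Ga (Spec (CommRingCat.of A))).obj.obj (op W))
    (s : (Gt I).obj.obj (op (oD f))) (hs : (Gt I).obj.map g.op s = (germ I).hom.app (op W) c) :
    Ψ I hf J hle s = g0 J ((Scheme.ΓSpecIso (CommRingCat.of H)).hom.hom (r.appTop.hom c.down)) := by
  show (Gt J).obj.map (topD hf).op ((ψ I φ J hle).hom.app (op (oD f)) s) = _
  rw [hom_bc_oD_subsingleton (sp φ) f (topD hf) (topLift φ r hr ≫ (EtCoh.bc (sp φ)).map g)]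
  refine (Functor.map_comp_apply (Gt J).obj ((EtCoh.bc (sp φ)).map g).op (topLift φ r hr).op _).trans ?_
  refine (congrArg ((Gt J).obj.map (topLift φ r hr).op)
    ((NatTrans.naturality_apply (ψ I φ J hle).hom g.op s).symm.trans
      ((congrArg ((ψ I φ J hle).hom.app (op W)) hs).trans (germ_ψ_app I φ J hle W c)))).trans ?_
  refine (NatTrans.naturality_apply (germ J).hom (topLift φ r hr).op _).symm.trans ?_
  refine congrArg ((germ J).hom.app _) ?_
  refine (Functor.map_comp_apply EtCoh.ΓAdd (fstB (sp φ) W).op (topLift φ r hr).left.op c).symm.trans ?_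
  refine (congrArg (fun m : Spec (CommRingCat.of H) ⟶ W.left => EtCoh.ΓAdd.map m.op c) (topLift_fstB φ r hr)).trans ?_
  exact ULift.ext _ _ ((Scheme.ΓSpecIso (CommRingCat.of H)).hom_inv_id_apply (r.appTop.hom c.down)).symm

variable {H' : Type u} [CommRing H'] (χ : H →+* H') {k : A →+* H'} (hk : χ.comp φ = k) {f' : A}
  (hf' : IsUnit (k f')) (J' : Ideal H') (hle' : I.map k ≤ J') (hχ : J.map χ ≤ J')

include hk hχ in
theorem Ψ_restrict (h : Dop f' ≤ Dop f) (s : (Gt I).obj.obj (op (oD f))) (x : H)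
    (hx : Ψ I hf J hle s = g0 J x) :
    Ψ I hf' J' hle' ((Gt I).obj.map (MV.oHom h).op s) = g0 J' (χ x) := by
  let y := (ψ I φ J hle).hom.app (op (oD f)) s
  let y' := (ψ J χ J' hχ).hom.app (op ((EtCoh.bc (sp φ)).obj (oD f))) y
  let ρ : EtCoh.top (Spec (CommRingCat.of H')) ⟶ (EtCoh.bc (sp χ)).obj (EtCoh.top (Spec (CommRingCat.of H))) :=
    topLift χ (V := EtCoh.top (Spec (CommRingCat.of H))) (sp χ) (Category.comp_id _)
  have hw := sp_comp φ χ hk
  have e1 : Ψ I hf' J' hle' ((Gt I).obj.map (MV.oHom h).op s) =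
      (Gt J').obj.map ((topD hf' ≫ (EtCoh.bc (sp k)).map (MV.oHom h)) ≫ (join (sp χ) (sp φ) hw).app (oD f)).op y' := by
    refine Eq.trans ?_ (Functor.map_comp_apply (Gt J').obj _ _ y').symm
    refine Eq.trans ?_ (Functor.map_comp_apply (Gt J').obj _ _ _).symm
    refine congrArg ((Gt J').obj.map (topD hf').op) ?_
    refine (NatTrans.naturality_apply (ψ I k J' hle').hom (MV.oHom h).op s).trans ?_
    refine congrArg ((Gt J').obj.map ((EtCoh.bc (sp k)).map (MV.oHom h)).op) ?_
    exact congr(($(ψ_comp I φ J χ J' hk hle hχ hle')).hom.app (op (oD f)) s)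
  have e2 : g0 J' (χ x) = (Gt J').obj.map (ρ ≫ (EtCoh.bc (sp χ)).map (topD hf)).op y' := by
    refine Eq.trans ?_ (Functor.map_comp_apply (Gt J').obj _ _ y').symm
    refine Eq.trans ?_ (congrArg ((Gt J').obj.map ρ.op)
      (NatTrans.naturality_apply (ψ J χ J' hχ).hom (topD hf).op y))
    refine Eq.trans ?_ (congrArg (fun z => (Gt J').obj.map ρ.op
      ((ψ J χ J' hχ).hom.app (op (EtCoh.top (Spec (CommRingCat.of H)))) z)) hx.symm)
    refine Eq.trans ?_ (congrArg ((Gt J').obj.map ρ.op) (germ_ψ_app J χ J' hχ _ (fnOf x))).symm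
    refine Eq.trans ?_ (NatTrans.naturality_apply (germ J').hom ρ.op _)
    refine congrArg ((germ J').hom.app _) ?_
    refine Eq.trans ?_ (Functor.map_comp_apply EtCoh.ΓAdd (fstB (sp χ) _).op ρ.left.op (fnOf x))
    refine Eq.trans ?_ (congrArg (fun m : Spec (CommRingCat.of H') ⟶ Spec (CommRingCat.of H) =>
      EtCoh.ΓAdd.map m.op (fnOf x))
      (topLift_fstB χ (V := EtCoh.top (Spec (CommRingCat.of H))) (sp χ) (Category.comp_id _)).symm)
    exact congrArg ULift.up (ConcreteCategory.congr_hom (Scheme.ΓSpecIso_inv_naturality (CommRingCat.ofHom χ)) x)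
  rw [e1, e2]
  refine congrArg (fun m => (Gt J').obj.map (Quiver.Hom.op m) y') ?_
  have key : ∀ {T : (Spec (CommRingCat.of H')).Etale}
      (p q : T ⟶ (EtCoh.bc (sp χ)).obj ((EtCoh.bc (sp φ)).obj (oD f))), p = q := fun p q => by
    have h1 := hom_bc_oD_subsingleton (sp k) f (p ≫ (split (sp χ) (sp φ) hw).app (oD f))
      (q ≫ (split (sp χ) (sp φ) hw).app (oD f))
    have h2 := congrArg (· ≫ (join (sp χ) (sp φ) hw).app (oD f)) h1
    simp only [Category.assoc, split_join, Category.comp_id] at h2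
    exact h2
  exact key _ _

end Groth.L27.SphCharP
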