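import Groth.Agent.L05.Henselization.Pair
import Groth.Agent.L05.HensSheaf.Away
import Groth.Agent.L15.SphTilde.Alg
import Groth.Prelude.Def_HensSch

/-!
# Elements of a henselization along a basic open come from etale neighbourhoods of the special fibre
-/

set_option autoImplicit false
set_option linter.style.haveILetI false

universe u

namespace Groth.L27.SphCharP

open Groth.L05 Groth.L05.Henselization

/-- An etale neighbourhood of the special fibre carrying an element. -/
theorem exists_stage {A : Type u} [CommRing A] {I : Ideal A} {f : A} {H : Type u} [CommRing H] [Algebra A H]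
    (h : HensSch.IsHensAway A I f H (algebraMap A H)) (z : H) :
    ∃ (R : Type u) (_ : CommRing R) (_ : Algebra A R) (_ : Algebra.Etale A R) (k : R →ₐ[A] H) (c : R)
      (σ : R →ₐ[A] (Localization.Away f ⧸ I.map (algebraMap A (Localization.Away f)))),
      IsUnit (algebraMap A R f) ∧ k c = z ∧ ∀ r, σ r = 0 → r ∈ I.map (algebraMap A R) := by
  let L := Localization.Away f
  let IL := I.map (algebraMap A L)
  letI : Algebra L H := (IsLocalization.Away.lift (g := algebraMap A H) f h.1).toAlgebra
  have hc : (algebraMap L H).comp (algebraMap A L) = algebraMap A H := IsLocalization.Away.lift_comp f h.1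
  haveI : IsScalarTower A L H := IsScalarTower.of_algebraMap_eq' hc.symm
  have hl := Groth.L15.SphTilde.Alg.isHensAway_localize h f h.1
  have hH : Hens2.IsPairHenselization L IL H := ⟨hl.2.1, fun C _ J k hC hk =>
    hl.2.2 C J k hC (by rwa [RingHom.algebraMap_toAlgebra] at *) ((IsLocalization.Away.algebraMap_isUnit f).map k)⟩
  obtain ⟨e, -⟩ := isPairHenselization_algEquiv L IL (Henselization.isPairHenselization L IL) hH
  obtain ⟨X, x, hx⟩ := ι_surj (e.symm z)
  obtain ⟨ε₀, -, hσ, hmem⟩ := exists_idem_of_section X.φ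
  let R := Localization.Away ε₀
  haveI : Algebra.Etale A L := Algebra.Etale.of_isLocalizationAway f
  haveI : Algebra.Etale A X.R := Algebra.Etale.comp A L X.R
  haveI : Algebra.Etale X.R R := Algebra.Etale.of_isLocalizationAway ε₀
  haveI : Algebra.Etale A R := Algebra.Etale.comp A X.R R
  let k₀ : X.R →ₐ[L] H := e.toAlgHom.comp (ι X)
  have hu : IsUnit (k₀ ε₀) := by
    refine IsUnit.map e.toAlgHom (isUnit_of_isUnit_ε (A := L) (K := L ⧸ IL) ?_)
    refine (congrArg IsUnit ((ε_ι X ε₀).trans hσ)).mpr ?_
    exact isUnit_one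
  have hu' : IsUnit ((X.φ.restrictScalars A) ε₀) := by
    show IsUnit (X.φ ε₀)
    rw [hσ]
    exact isUnit_one
  let k' : R →+* H := IsLocalization.Away.lift (g := k₀.toRingHom) ε₀ hu
  let σ' : R →+* L ⧸ IL := IsLocalization.Away.lift (g := X.φ.toRingHom) ε₀ hu'
  have hA : ∀ a : A, algebraMap A R a = algebraMap X.R R (algebraMap A X.R a) :=
    IsScalarTower.algebraMap_apply A X.R R
  refine ⟨R, inferInstance, inferInstance, inferInstance,
    { k' with commutes' := fun a => ?_ }, algebraMap X.R R x, { σ' with commutes' := fun a => ?_ }, ?_, ?_, ?_⟩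
  · show k' (algebraMap A R a) = _
    rw [hA, IsLocalization.Away.lift_eq]
    exact (k₀.restrictScalars A).commutes a
  · show σ' (algebraMap A R a) = _
    rw [hA, IsLocalization.Away.lift_eq]
    exact (X.φ.restrictScalars A).commutes a
  · rw [hA]
    refine IsUnit.map _ ?_
    rw [IsScalarTower.algebraMap_apply A L X.R]
    exact (IsLocalization.Away.algebraMap_isUnit f).map _
  · show k' (algebraMap X.R R x) = z
    rw [IsLocalization.Away.lift_eq]
    show e (ι X x) = z
    rw [hx, e.apply_symm_apply]
  · intro r hr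
    obtain ⟨n, y, hy⟩ := IsLocalization.Away.surj ε₀ r
    have h0 : X.φ y = 0 := by
      have h1 := congrArg σ' hy
      rw [map_mul, IsLocalization.Away.lift_eq, show σ' r = 0 from hr, zero_mul] at h1
      exact h1.symm
    have h2 := Ideal.mem_map_of_mem (algebraMap X.R R) (hmem y h0)
    rw [Ideal.map_map, Ideal.map_map, RingHom.comp_assoc,
      ← IsScalarTower.algebraMap_eq A L X.R, ← IsScalarTower.algebraMap_eq A X.R R, map_mul, ← hy] at h2
    have hu₂ : IsUnit (algebraMap X.R R ε₀) := IsLocalization.Away.algebraMap_isUnit ε₀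
    exact (Ideal.mul_unit_mem_iff_mem _ (hu₂.pow n)).1 ((Ideal.mul_unit_mem_iff_mem _ hu₂).1 h2)

end Groth.L27.SphCharP
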