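import Groth.Agent.L27.SphCharP.Psi
import Groth.Agent.L27.SphCharP.Stage

/-!
# Every element of the henselization along a basic open is a germ
-/

set_option autoImplicit false
set_option linter.style.haveILetI false
set_option linter.unusedSectionVars false
set_option backward.isDefEq.respectTransparency.types false

universe u

open CategoryTheory CategoryTheory.Limits AlgebraicGeometry Opposite

noncomputable section

namespace Groth.L27.SphCharP

open LimCoh

/-- The ring map of a morphism to an affine scheme. -/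
abbrev rmap {P : Scheme.{u}} {R : Type u} [CommRing R] (m : P ⟶ Spec (CommRingCat.of R)) : R →+* Γ(P, ⊤) :=
  m.appTop.hom.comp (Scheme.ΓSpecIso (CommRingCat.of R)).inv.hom

theorem rmap_toSpec {P : Scheme.{u}} {R : Type u} [CommRing R] (h : R →+* Γ(P, ⊤)) :
    rmap (P.toSpecΓ ≫ Spec.map (CommRingCat.ofHom h)) = h := by
  ext r
  have h1 := ConcreteCategory.congr_hom (Scheme.ΓSpecIso_inv_naturality (CommRingCat.ofHom h)) r
  simp only [ConcreteCategory.comp_apply] at h1
  rw [rmap, Scheme.Hom.comp_appTop]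
  simp only [RingHom.coe_comp, Function.comp_apply, CommRingCat.hom_comp, ← h1, Scheme.toSpecΓ_appTop]
  exact (Scheme.ΓSpecIso Γ(P, ⊤)).inv_hom_id_apply _

theorem rmap_comp {P : Scheme.{u}} {R S : Type u} [CommRing R] [CommRing S] (m : P ⟶ Spec (CommRingCat.of R))
    (g : S →+* R) : rmap (m ≫ Spec.map (CommRingCat.ofHom g)) = (rmap m).comp g := by
  ext s
  rw [rmap, Scheme.Hom.comp_appTop]
  exact (congrArg m.appTop.hom
    (ConcreteCategory.congr_hom (Scheme.ΓSpecIso_inv_naturality (CommRingCat.ofHom g)) s)).symm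

theorem rmap_pre {P Q : Scheme.{u}} {R : Type u} [CommRing R] (q : Q ⟶ P) (m : P ⟶ Spec (CommRingCat.of R)) :
    rmap (q ≫ m) = q.appTop.hom.comp (rmap m) := by
  rw [rmap, Scheme.Hom.comp_appTop]
  rfl

theorem rmap_ext {P : Scheme.{u}} {R : Type u} [CommRing R] {m m' : P ⟶ Spec (CommRingCat.of R)}
    (h : rmap m = rmap m') : m = m' := by
  refine ext_of_isAffine (CommRingCat.hom_ext (RingHom.ext fun x => ?_))
  have := RingHom.congr_fun h ((Scheme.ΓSpecIso (CommRingCat.of R)).hom.hom x)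
  simpa [rmap] using this

variable {A : Type u} [CommRing A] (I : Ideal A)

theorem rmap_eq_zero {P : Scheme.{u}} (x : P ⟶ Spec (CommRingCat.of (A ⧸ I))) {a : A} (ha : a ∈ I) :
    rmap (x ≫ ιI I) a = 0 := by
  rw [rmap_comp, RingHom.comp_apply, Ideal.Quotient.eq_zero_iff_mem.2 ha, map_zero]

theorem isUnit_rmap {P : Scheme.{u}} {f : A} (q : P ⟶ (Dop f : Scheme.{u})) :
    IsUnit (rmap (q ≫ (Dop f).ι) f) := by
  let j : Spec (CommRingCat.of (Localization.Away f)) ⟶ Spec (CommRingCat.of A) :=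
    Spec.map (CommRingCat.ofHom (algebraMap A (Localization.Away f)))
  haveI : IsOpenImmersion j := IsOpenImmersion.of_isLocalization f
  have hr : Set.range (q ≫ (Dop f).ι) ⊆ Set.range j := by
    rw [show Set.range j = (PrimeSpectrum.basicOpen f : Set (PrimeSpectrum A)) from
      PrimeSpectrum.localization_away_comap_range (Localization.Away f) f]
    rintro _ ⟨p, rfl⟩
    rw [Scheme.Hom.comp_apply]
    exact (q p).2
  rw [← IsOpenImmersion.lift_fac j _ hr, rmap_comp, RingHom.comp_apply]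
  exact (IsLocalization.Away.algebraMap_isUnit f).map _

variable {f : A} {H : Type u} [CommRing H] [Algebra A H]

/-- Every element of the henselization is the value of a germ. -/
theorem exists_Ψ_eq (h : HensSch.IsHensAway A I f H (algebraMap A H)) (z : H) :
    ∃ s, Ψ I h.1 (I.map (algebraMap A H)) le_rfl s = g0 (I.map (algebraMap A H)) z := by
  obtain ⟨R, _, _, _, k, c, σ, hfR, hc, hker⟩ := exists_stage h z
  haveI : AlgebraicGeometry.Etale (sp (algebraMap A R)) :=
    HasRingHomProperty.Spec_iff.2 (RingHom.etale_algebraMap.2 inferInstance)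
  let W : (Spec (CommRingCat.of A)).Etale := Scheme.Etale.mk (sp (algebraMap A R))
  have hr : Set.range (sp (algebraMap A R)) ⊆ Set.range (Dop f).ι := range_sp_subset hfR
  let gl : Spec (CommRingCat.of R) ⟶ (Dop f : Scheme.{u}) := IsOpenImmersion.lift (Dop f).ι (sp (algebraMap A R)) hr
  have hgl : gl ≫ (Dop f).ι = sp (algebraMap A R) := IsOpenImmersion.lift_fac _ _ _
  let g : W ⟶ oD f := MorphismProperty.Over.homMk gl hgl
  let P := (EtCoh.bc (ιI I)).obj (oD f)
  let q : P.left ⟶ Spec (CommRingCat.of A) := fstB (ιI I) (oD f) ≫ (Dop f).ι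
  have hq : q = P.hom ≫ ιI I := fstB_w (ιI I) (oD f)
  let θ : Localization.Away f →+* Γ(P.left, ⊤) :=
    IsLocalization.Away.lift (g := rmap q) f (isUnit_rmap (fstB (ιI I) (oD f)))
  have hθ : θ.comp (algebraMap A _) = rmap q := IsLocalization.Away.lift_comp f _
  let θ' : Localization.Away f ⧸ I.map (algebraMap A (Localization.Away f)) →+* Γ(P.left, ⊤) :=
    Ideal.Quotient.lift _ θ fun x hx => by
      refine (Ideal.map_le_iff_le_comap.2 fun a ha => ?_ :
        I.map (algebraMap A (Localization.Away f)) ≤ RingHom.ker θ) hx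
      show θ (algebraMap A _ a) = 0
      rw [← RingHom.comp_apply, hθ, hq]
      exact rmap_eq_zero I P.hom ha
  let nR : P.left ⟶ W.left := P.left.toSpecΓ ≫ Spec.map (CommRingCat.ofHom (θ'.comp σ.toRingHom))
  have hn : nR ≫ W.hom = P.hom ≫ ιI I := by
    rw [← hq]
    refine rmap_ext ?_
    refine (rmap_comp nR (algebraMap A R)).trans ?_
    rw [show rmap nR = θ'.comp σ.toRingHom from rmap_toSpec _, RingHom.comp_assoc]
    ext a
    show θ' (σ (algebraMap A R a)) = _
    rw [σ.commutes, ← hθ]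
    rfl
  let n : P ⟶ (EtCoh.bc (ιI I)).obj W := LimCoh.lift (ιI I) nR hn
  have hid : (EtCoh.bc (ιI I)).map g ≫ n = 𝟙 _ := by
    refine bc_hom_ext (ιI I) ?_
    let Q := (EtCoh.bc (ιI I)).obj W
    have key : ∀ m : Q.left ⟶ Spec (CommRingCat.of R), m ≫ sp (algebraMap A R) = Q.hom ≫ ιI I →
        (rmap m).comp (algebraMap A R) = rmap (Q.hom ≫ ιI I) ∧ ∀ r, σ r = 0 → rmap m r = 0 := fun m hm => by
      have h1 : (rmap m).comp (algebraMap A R) = rmap (Q.hom ≫ ιI I) := by rw [← rmap_comp, hm]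
      refine ⟨h1, fun r hr0 => ?_⟩
      refine (Ideal.map_le_iff_le_comap.2 fun a ha => ?_ : I.map (algebraMap A R) ≤ RingHom.ker (rmap m)) (hker r hr0)
      show rmap m (algebraMap A R a) = 0
      rw [← RingHom.comp_apply, h1]
      exact rmap_eq_zero I Q.hom ha
    let m₀ : Q.left ⟶ Spec (CommRingCat.of R) := ((EtCoh.bc (ιI I)).map g ≫ n).left ≫ fstB (ιI I) W
    let m₁ : Q.left ⟶ Spec (CommRingCat.of R) := fstB (ιI I) W
    have e0 : m₀ ≫ sp (algebraMap A R) = Q.hom ≫ ιI I :=
      (Category.assoc _ _ _).trans ((congrArg (_ ≫ ·) (fstB_w (ιI I) W)).trans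
        ((Category.assoc _ _ _).symm.trans (congrArg (· ≫ ιI I) (MorphismProperty.Over.w _))))
    obtain ⟨k0, k0'⟩ := key m₀ e0
    obtain ⟨k1, k1'⟩ := key m₁ (fstB_w (ιI I) W)
    refine Eq.trans (rmap_ext (m := m₀) (m' := m₁) (RingHom.ext fun r => ?_)) (Category.id_comp _).symm
    obtain ⟨l, hl⟩ := Ideal.Quotient.mk_surjective (σ r)
    obtain ⟨N, a, hla⟩ := IsLocalization.Away.surj f l
    have hz : σ (r * algebraMap A R f ^ N - algebraMap A R a) = 0 := by
      rw [map_sub, map_mul, map_pow, σ.commutes, σ.commutes, ← hl]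
      show Ideal.Quotient.mk _ l * Ideal.Quotient.mk _ (algebraMap A _ f) ^ N - Ideal.Quotient.mk _ (algebraMap A _ a) = 0
      rw [← map_pow, ← map_mul, hla, sub_self]
    have a0 := k0' _ hz
    have a1 := k1' _ hz
    rw [map_sub, map_mul, map_pow, sub_eq_zero, ← RingHom.comp_apply, ← RingHom.comp_apply, k0] at a0
    rw [map_sub, map_mul, map_pow, sub_eq_zero, ← RingHom.comp_apply, ← RingHom.comp_apply, k1] at a1
    have hu : IsUnit (rmap (Q.hom ≫ ιI I) f) := by
      rw [← k1, RingHom.comp_apply]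
      exact hfR.map _
    exact (hu.pow N).mul_left_injective (a0.trans a1.symm)
  let F := (EtCoh.pull (ιI I)).obj (EtCoh.Ga (Spec (CommRingCat.of A)))
  let cW : (EtCoh.Ga (Spec (CommRingCat.of A))).obj.obj (op W) :=
    ULift.up ((Scheme.ΓSpecIso (CommRingCat.of R)).inv.hom c)
  refine ⟨F.obj.map n.op ((germ I).hom.app (op W) cW), ?_⟩
  have hrk : sp k.toRingHom ≫ W.hom = sp (algebraMap A H) := sp_comp (algebraMap A R) k.toRingHom k.comp_algebraMap
  refine (Ψ_germ I h.1 _ le_rfl g (sp k.toRingHom) hrk cW _ ?_).trans ?_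
  · show F.obj.map ((EtCoh.bc (ιI I)).map g).op (F.obj.map n.op _) = _
    refine (Functor.map_comp_apply F.obj n.op ((EtCoh.bc (ιI I)).map g).op _).symm.trans ?_
    rw [← op_comp, hid]
    exact congr($(F.obj.map_id (op ((EtCoh.bc (ιI I)).obj W))) _)
  · refine congrArg (g0 _) ?_
    have e := ConcreteCategory.congr_hom (Scheme.ΓSpecIso_inv_naturality (CommRingCat.ofHom k.toRingHom)) c
    refine (congrArg (Scheme.ΓSpecIso (CommRingCat.of H)).hom.hom e.symm).trans ?_
    exact ((Scheme.ΓSpecIso (CommRingCat.of H)).inv_hom_id_apply _).trans hc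

end Groth.L27.SphCharP
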